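import Groth.Agent.Lib.MultLift16.Basic
import Groth.Agent.Lib.OneMotFaith14.Torsion
import Mathlib

/-!
# Short exact sequences of commutative group schemes for the fppf topology: the quotient map
-/

set_option autoImplicit false
set_option backward.isDefEq.respectTransparency false

universe u

open CategoryTheory CategoryTheory.Limits MonoidalCategory CartesianMonoidalCategory MonObj AlgebraicGeometry

noncomputable section

namespace GrothLib.FppfExt14

variable {S : Scheme.{u}} {A E T : Over S} [GrpObj A] [IsCommMonObj A] [GrpObj E] [IsCommMonObj E] [GrpObj T]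
  [IsCommMonObj T] (u : A ⟶ E) (v : E ⟶ T) [IsMonHom u] [IsMonHom v] (w : u ≫ v = 1)
  (hex : (CGrpSh.seq Scheme.fppfPrecoverage u v w).ShortExact)

include hex in
theorem mono_left : Mono u := ⟨fun _ _ h => OneMotFaith14.injective_of_mono u hex.mono_f h⟩

include hex in
/-- A point killed by the quotient map comes from the subgroup. -/
theorem exists_factor {X : Over S} (x : X ⟶ E) (hx : x ≫ v = 1) : ∃ z : X ⟶ A, z ≫ u = x := by
  obtain ⟨R, hR, hz⟩ := MultLift16.exact_locally u v w hex.exact X x hx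
  choose z hz using hz
  obtain ⟨a, ha⟩ := MultLift16.glue hR z fun U₁ U₂ W g₁ g₂ f₁ f₂ h₁ h₂ e =>
    OneMotFaith14.injective_of_mono u hex.mono_f (by
      rw [Category.assoc, Category.assoc, hz, hz, ← Category.assoc, ← Category.assoc, e])
  exact ⟨a, MultLift16.hom_ext_locally hR fun U f hf => by rw [← Category.assoc, ha f hf, hz]⟩

include hex in
/-- The subgroup is the kernel. -/
theorem isKernel : AlgGrp.IsKernel u v := by
  haveI := mono_left u v w hex
  have hu : u ≫ v = toUnit A ≫ η[T] := w.trans (Hom.one_def)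
  refine IsPullback.of_isLimit' ⟨hu⟩ (PullbackCone.IsLimit.mk _
    (fun c => (exists_factor u v w hex c.fst (by rw [c.condition, toUnit_unique c.snd (toUnit _), Hom.one_def])).choose)
    (fun c => (exists_factor u v w hex c.fst (by rw [c.condition, toUnit_unique c.snd (toUnit _), Hom.one_def])).choose_spec)
    (fun c => Subsingleton.elim _ _)
    fun c m h1 _ => (cancel_mono u).1 (h1.trans
      (exists_factor u v w hex c.fst (by rw [c.condition, toUnit_unique c.snd (toUnit _), Hom.one_def])).choose_spec.symm))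

include hex in
/-- Over a member with a lift, the quotient map is a trivial torsor. -/
theorem isPullback_of_lift {W : Over S} (f : W ⟶ T) (s : W ⟶ E) (hs : s ≫ v = f) :
    IsPullback ((fst A W ≫ u) * (snd A W ≫ s)) (snd A W) v f := by
  haveI := mono_left u v w hex
  have hw : ((fst A W ≫ u) * (snd A W ≫ s)) ≫ v = snd A W ≫ f := by
    rw [MonObj.mul_comp, Category.assoc, Category.assoc, w, MonObj.comp_one, _root_.one_mul, hs]
  have hex' : ∀ c : PullbackCone v f, ∃ z : c.pt ⟶ A, z ≫ u = c.fst * (c.snd ≫ s)⁻¹ := fun c =>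
    exists_factor u v w hex _ (by
      rw [MonObj.mul_comp, GrpObj.inv_comp, Category.assoc, hs, c.condition, mul_inv_cancel])
  refine IsPullback.of_isLimit' ⟨hw⟩ (PullbackCone.IsLimit.mk _
    (fun c => lift (hex' c).choose c.snd)
    (fun c => ?_) (fun c => lift_snd _ _) fun c m h1 h2 => ?_)
  · rw [MonObj.comp_mul, lift_fst_assoc, lift_snd_assoc, (hex' c).choose_spec, inv_mul_cancel_right]
  · apply CartesianMonoidalCategory.hom_ext
    · rw [lift_fst, ← cancel_mono u, (hex' c).choose_spec, Category.assoc]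
      rw [MonObj.comp_mul, reassoc_of% h2] at h1
      exact eq_mul_inv_of_mul_eq h1
    · rw [lift_snd, h2]

include hex in
/-- A smooth subgroup with an fppf quotient sequence gives a smooth surjective quotient map. -/
theorem smooth_right [Smooth A.hom] [Surjective A.hom] [QuasiCompact A.hom] :
    Smooth v.left ∧ Surjective v.left ∧ QuasiCompact v.left := by
  obtain ⟨R, hR, hlift⟩ := MultLift16.lift_locally v hex.epi_g T (𝟙 T)
  have h := (GrothendieckTopology.mem_over_iff _ R).1 hR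
  obtain ⟨P, ⟨hPs, hPp⟩, hPR⟩ := Precoverage.mem_toGrothendieck_iff_of_isStableUnderComposition.1 h
  let Q : MorphismProperty Scheme.{u} := @Smooth ⊓ @Surjective ⊓ @QuasiCompact
  suffices hQ : ∀ t : T.left, ∃ V : T.left.Opens, t ∈ V ∧ Q (v.left ∣_ V) by
    choose V hV hQV using hQ
    have hcov : ⨆ t, V t = ⊤ := top_le_iff.1 fun t _ => TopologicalSpace.Opens.mem_iSup.2 ⟨t, hV t⟩
    exact ⟨IsZariskiLocalAtTarget.of_iSup_eq_top (P := @Smooth) V hcov fun t => (hQV t).1.1,
      IsZariskiLocalAtTarget.of_iSup_eq_top (P := @Surjective) V hcov fun t => (hQV t).1.2,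
      IsZariskiLocalAtTarget.of_iSup_eq_top (P := @QuasiCompact) V hcov fun t => (hQV t).2⟩
  intro t
  suffices key : ∀ (Y : Scheme.{u}) (g : Y ⟶ T.left), P g → ∀ z : Y, g z = t →
      ∃ V : T.left.Opens, t ∈ V ∧ Q (v.left ∣_ V) by
    obtain ⟨Y, g, ⟨hu⟩, z, hz⟩ := hPs t
    exact key _ _ hu z hz
  intro Y g hu z hz
  haveI : Flat g := (hPp hu).1
  haveI : LocallyOfFinitePresentation g := (hPp hu).2
  obtain ⟨_, ⟨V₀, hV₀, rfl⟩, htV₀, -⟩ := T.left.isBasis_affineOpens.exists_subset_of_mem_open (Set.mem_univ t) isOpen_univ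
  obtain ⟨_, ⟨(W₀ : Y.Opens), hW₀, rfl⟩, hzW₀, hWV⟩ := Y.isBasis_affineOpens.exists_subset_of_mem_open
    (show z ∈ g ⁻¹ᵁ V₀ by show g z ∈ V₀; rw [hz]; exact htV₀) (g ⁻¹ᵁ V₀).2
  let g₀ : (W₀ : Scheme.{u}) ⟶ T.left := (Scheme.Opens.ι W₀) ≫ g
  let V : T.left.Opens := ⟨Set.range g₀, g₀.isOpenMap.isOpen_range⟩
  let g₁ : (W₀ : Scheme.{u}) ⟶ V := IsOpenImmersion.lift V.ι g₀ (by rw [Scheme.Opens.range_ι]; exact subset_rfl)
  have hg₁ : g₁ ≫ V.ι = g₀ := IsOpenImmersion.lift_fac _ _ _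
  haveI : Flat g₁ := MorphismProperty.of_postcomp (W := @Flat) (W' := @IsOpenImmersion) g₁ V.ι inferInstance (by rw [hg₁]; infer_instance)
  haveI : Surjective g₁ := ⟨fun y => by
    obtain ⟨x, hx⟩ : V.ι y ∈ Set.range g₀ := by
      have := y.2
      exact this
    exact ⟨x, V.ι.isOpenEmbedding.injective (by rw [← Scheme.Hom.comp_apply, hg₁, hx])⟩⟩
  haveI : QuasiCompact g₁ := by
    have hle : V ≤ V₀ := by
      rintro _ ⟨x, rfl⟩
      exact hWV x.2
    haveI : IsAffine (V₀ : Scheme.{u}) := hV₀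
    haveI : IsAffine (W₀ : Scheme.{u}) := hW₀
    haveI : QuasiCompact (g₁ ≫ T.left.homOfLE hle) := by
      haveI : IsAffineHom (g₁ ≫ T.left.homOfLE hle) := isAffineHom_of_isAffine _
      infer_instance
    exact QuasiCompact.of_comp g₁ (T.left.homOfLE hle)
  -- the member of the sieve
  let W : Over S := Over.mk (g₀ ≫ T.hom)
  let f : W ⟶ T := Over.homMk g₀ rfl
  have hf : R f := by
    have h0 : R (Over.homMk g : Over.mk (g ≫ T.hom) ⟶ T) := (Sieve.overEquiv_iff R g).1 (hPR Y g hu)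
    let j : W ⟶ Over.mk (g ≫ T.hom) := Over.homMk (Scheme.Opens.ι W₀) (Category.assoc _ _ _).symm
    have e : j ≫ (Over.homMk g : Over.mk (g ≫ T.hom) ⟶ T) = f := Over.OverMorphism.ext rfl
    rw [← e]; exact R.downward_closed h0 j
  obtain ⟨s, hs⟩ := hlift f hf
  rw [Category.comp_id] at hs
  have sq := (isPullback_of_lift u v w hex f s hs).map (Over.forget S)
  let φ := ((fst A W ≫ u) * (snd A W ≫ s)).left
  have hφ : φ ≫ v.left = (snd A W).left ≫ g₁ ≫ V.ι := by rw [hg₁]; exact sq.w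
  let φ₁ : (A ⊗ W).left ⟶ (v.left ⁻¹ᵁ V : E.left.Opens) := IsOpenImmersion.lift (v.left ⁻¹ᵁ V).ι φ (by
    rw [Scheme.Opens.range_ι]
    rintro _ ⟨x, rfl⟩
    show v.left (φ x) ∈ V
    rw [← Scheme.Hom.comp_apply, hφ, Scheme.Hom.comp_apply, Scheme.Hom.comp_apply]
    exact (g₁ ((snd A W).left x)).2)
  have hφ₁ : φ₁ ≫ (v.left ⁻¹ᵁ V).ι = φ := IsOpenImmersion.lift_fac _ _ _
  have hw₁ : φ₁ ≫ (v.left ∣_ V) = (snd A W).left ≫ g₁ := by
    rw [← cancel_mono V.ι, Category.assoc, morphismRestrict_ι, ← Category.assoc, hφ₁, hφ, Category.assoc]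
  have sq' : IsPullback (φ₁ ≫ (v.left ⁻¹ᵁ V).ι) (snd A W).left v.left (g₁ ≫ V.ι) := by
    rw [hφ₁, hg₁]; exact sq
  have sq₁ : IsPullback φ₁ (snd A W).left (v.left ∣_ V) g₁ :=
    IsPullback.of_right sq' hw₁ (isPullback_morphismRestrict v.left V).flip
  have hsm : Smooth (snd A W).left := inferInstanceAs (Smooth (pullback.snd A.hom W.hom))
  have hsu : Surjective (snd A W).left := inferInstanceAs (Surjective (pullback.snd A.hom W.hom))
  have hqc : QuasiCompact (snd A W).left := inferInstanceAs (QuasiCompact (pullback.snd A.hom W.hom))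
  refine ⟨V, ⟨⟨z, hzW₀⟩, ?_⟩, ⟨?_, ?_⟩, ?_⟩
  · show g ((Scheme.Opens.ι W₀) ⟨z, hzW₀⟩) = t
    exact hz
  · exact MorphismProperty.of_isPullback_of_descendsAlong (P := @Smooth) (Q := @Surjective ⊓ @Flat ⊓ @QuasiCompact)
      sq₁.flip ⟨⟨inferInstance, inferInstance⟩, inferInstance⟩ hsm
  · refine ⟨fun y => ?_⟩
    obtain ⟨y', hy'⟩ := g₁.surjective y
    obtain ⟨x, hx⟩ := (snd A W).left.surjective y'
    exact ⟨φ₁ x, by rw [← Scheme.Hom.comp_apply, hw₁, Scheme.Hom.comp_apply, hx]; exact hy'⟩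
  · exact MorphismProperty.of_isPullback_of_descendsAlong (P := @QuasiCompact) (Q := @Surjective ⊓ @Flat ⊓ @QuasiCompact)
      sq₁.flip ⟨⟨inferInstance, inferInstance⟩, inferInstance⟩ hqc

end GrothLib.FppfExt14
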